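import Mathlib.Algebra.Homology.ShortComplex.Ab
import Mathlib.Algebra.Homology.ShortComplex.HomologicalComplex
import Mathlib.Algebra.Homology.HomologicalComplexAbelian
import Mathlib.Algebra.Category.Grp.EpiMono

/-!
# Concrete homology classes for cochain complexes of abelian groups

For `K : CochainComplex AddCommGrpCat ℤ` we define the class `cls K x hx ∈ H^i(K)` of a cocycle `x`
and prove the usual facts (every class is of this form, a class vanishes iff the cocycle is a
coboundary, naturality), and element-wise criteria for injectivity / surjectivity of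
`homologyMap φ i`.

(helper45)
-/

set_option autoImplicit false

namespace Groth.Agent.H45.LimCx

open CategoryTheory Limits HomologicalComplex

universe u

variable (K L : CochainComplex AddCommGrpCat.{u} ℤ) {i : ℤ}

/-- the group of `i`-cocycles, as an object of `Ab` -/
noncomputable abbrev Zobj (i k : ℤ) : AddCommGrpCat.{u} :=
  AddCommGrpCat.of (AddMonoidHom.ker (K.d i k).hom)

/-- the inclusion of the cocycles -/
noncomputable abbrev Zι (i k : ℤ) : Zobj K i k ⟶ K.X i :=
  AddCommGrpCat.ofHom (AddMonoidHom.ker (K.d i k).hom).subtype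

lemma Zι_d (i k : ℤ) : Zι K i k ≫ K.d i k = 0 := by
  ext ⟨x, hx⟩
  exact hx

/-- the map from concrete cocycles to the abstract cycles -/
noncomputable def toCyc (i k : ℤ) (hk : i + 1 = k) : Zobj K i k ⟶ K.cycles i :=
  K.liftCycles (Zι K i k) k (by simp [← hk]) (Zι_d K i k)

lemma toCyc_i (i k : ℤ) (hk : i + 1 = k) : toCyc K i k hk ≫ K.iCycles i = Zι K i k :=
  K.liftCycles_i _ _ _ _

/-- the class of a cocycle -/
noncomputable def cls {i k : ℤ} (hk : i + 1 = k) (x : K.X i) (hx : (K.d i k).hom x = 0) :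
    K.homology i :=
  (toCyc K i k hk ≫ K.homologyπ i).hom ⟨x, hx⟩

lemma iCycles_injective (i : ℤ) : Function.Injective (K.iCycles i).hom :=
  (AddCommGrpCat.mono_iff_injective _).1 inferInstance

lemma cls_surjective {i k : ℤ} (hk : i + 1 = k) (h : K.homology i) :
    ∃ (x : K.X i) (hx : (K.d i k).hom x = 0), cls K hk x hx = h := by
  obtain ⟨c, rfl⟩ := (AddCommGrpCat.epi_iff_surjective (K.homologyπ i)).1 inferInstance h
  have hx : (K.d i k).hom ((K.iCycles i).hom c) = 0 := by
    have := ConcreteCategory.congr_hom (K.iCycles_d i k) c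
    exact this
  refine ⟨(K.iCycles i).hom c, hx, ?_⟩
  have hc : (toCyc K i k hk).hom ⟨(K.iCycles i).hom c, hx⟩ = c := by
    apply iCycles_injective K i
    exact ConcreteCategory.congr_hom (toCyc_i K i k hk) ⟨(K.iCycles i).hom c, hx⟩
  change (K.homologyπ i).hom ((toCyc K i k hk).hom ⟨(K.iCycles i).hom c, hx⟩) = _
  rw [hc]

lemma cls_eq_zero_iff {j i k : ℤ} (hj : j + 1 = i) (hk : i + 1 = k) (x : K.X i)
    (hx : (K.d i k).hom x = 0) :
    cls K hk x hx = 0 ↔ ∃ y : K.X j, (K.d j i).hom y = x := by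
  have hex : (ShortComplex.mk (K.toCycles j i) (K.homologyπ i)
      (K.toCycles_comp_homologyπ j i)).Exact :=
    ShortComplex.exact_of_g_is_cokernel _ (K.homologyIsCokernel j i (by simp [← hj]))
  rw [ShortComplex.ab_exact_iff] at hex
  constructor
  · intro h
    obtain ⟨y, hy⟩ := hex ((toCyc K i k hk).hom ⟨x, hx⟩) h
    refine ⟨y, ?_⟩
    have h1 := ConcreteCategory.congr_hom (K.toCycles_i j i) y
    have h2 := ConcreteCategory.congr_hom (toCyc_i K i k hk) ⟨x, hx⟩
    change (K.iCycles i).hom ((K.toCycles j i).hom y) = (K.d j i).hom y at h1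
    change (K.iCycles i).hom ((toCyc K i k hk).hom ⟨x, hx⟩) = x at h2
    rw [← h1, ← h2]
    exact congrArg _ hy
  · rintro ⟨y, rfl⟩
    have hc : (toCyc K i k hk).hom ⟨(K.d j i).hom y, hx⟩ = (K.toCycles j i).hom y := by
      apply iCycles_injective K i
      have h1 := ConcreteCategory.congr_hom (K.toCycles_i j i) y
      have h2 := ConcreteCategory.congr_hom (toCyc_i K i k hk) ⟨(K.d j i).hom y, hx⟩
      exact h2.trans h1.symm
    change (K.homologyπ i).hom ((toCyc K i k hk).hom ⟨(K.d j i).hom y, hx⟩) = 0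
    rw [hc]
    exact ConcreteCategory.congr_hom (K.toCycles_comp_homologyπ j i) y

lemma cls_sub {i k : ℤ} (hk : i + 1 = k) (x y : K.X i) (hx : (K.d i k).hom x = 0)
    (hy : (K.d i k).hom y = 0) :
    cls K hk (x - y) (by rw [map_sub, hx, hy, sub_zero]) = cls K hk x hx - cls K hk y hy := by
  have := map_sub (toCyc K i k hk ≫ K.homologyπ i).hom
    (⟨x, hx⟩ : AddMonoidHom.ker (K.d i k).hom) ⟨y, hy⟩
  exact this

lemma cls_congr {i k : ℤ} (hk : i + 1 = k) {x y : K.X i} (h : x = y)
    (hx : (K.d i k).hom x = 0) : cls K hk x hx = cls K hk y (h ▸ hx) := by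
  subst h
  rfl

variable {K L}

lemma homologyMap_cls (φ : K ⟶ L) {i k : ℤ} (hk : i + 1 = k) (x : K.X i)
    (hx : (K.d i k).hom x = 0) :
    (homologyMap φ i).hom (cls K hk x hx) =
      cls L hk ((φ.f i).hom x) (by
        have := ConcreteCategory.congr_hom (φ.comm i k) x
        change (L.d i k).hom ((φ.f i).hom x) = (φ.f k).hom ((K.d i k).hom x) at this
        rw [this, hx, map_zero]) := by
  have hx' : (L.d i k).hom ((φ.f i).hom x) = 0 := by
    have := ConcreteCategory.congr_hom (φ.comm i k) x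
    change (L.d i k).hom ((φ.f i).hom x) = (φ.f k).hom ((K.d i k).hom x) at this
    rw [this, hx, map_zero]
  have h1 : (cyclesMap φ i).hom ((toCyc K i k hk).hom ⟨x, hx⟩) =
      (toCyc L i k hk).hom ⟨(φ.f i).hom x, hx'⟩ := by
    apply iCycles_injective L i
    have e1 := ConcreteCategory.congr_hom (cyclesMap_i φ i) ((toCyc K i k hk).hom ⟨x, hx⟩)
    have e2 := ConcreteCategory.congr_hom (toCyc_i K i k hk) ⟨x, hx⟩
    have e3 := ConcreteCategory.congr_hom (toCyc_i L i k hk) ⟨(φ.f i).hom x, hx'⟩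
    change (L.iCycles i).hom ((cyclesMap φ i).hom ((toCyc K i k hk).hom ⟨x, hx⟩)) =
      (φ.f i).hom ((K.iCycles i).hom ((toCyc K i k hk).hom ⟨x, hx⟩)) at e1
    change (K.iCycles i).hom ((toCyc K i k hk).hom ⟨x, hx⟩) = x at e2
    change (L.iCycles i).hom ((toCyc L i k hk).hom ⟨(φ.f i).hom x, hx'⟩) = (φ.f i).hom x at e3
    rw [e1, e2, e3]
  have h2 := ConcreteCategory.congr_hom (homologyπ_naturality φ i) ((toCyc K i k hk).hom ⟨x, hx⟩)
  change (homologyMap φ i).hom ((K.homologyπ i).hom ((toCyc K i k hk).hom ⟨x, hx⟩)) =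
    (L.homologyπ i).hom ((cyclesMap φ i).hom ((toCyc K i k hk).hom ⟨x, hx⟩)) at h2
  change (homologyMap φ i).hom ((K.homologyπ i).hom ((toCyc K i k hk).hom ⟨x, hx⟩)) = _
  rw [h2, h1]
  rfl

/-- element-wise criterion for injectivity of the map in homology -/
lemma homologyMap_injective_of (φ : K ⟶ L) {j i k : ℤ} (hj : j + 1 = i) (hk : i + 1 = k)
    (h : ∀ x : K.X i, (K.d i k).hom x = 0 → (∃ y : L.X j, (L.d j i).hom y = (φ.f i).hom x) →
      ∃ y' : K.X j, (K.d j i).hom y' = x) :
    Function.Injective (homologyMap φ i).hom := by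
  rw [injective_iff_map_eq_zero]
  intro c hc
  obtain ⟨x, hx, rfl⟩ := cls_surjective K hk c
  rw [homologyMap_cls φ hk x hx, cls_eq_zero_iff L hj hk] at hc
  rw [cls_eq_zero_iff K hj hk]
  exact h x hx hc

lemma of_homologyMap_injective (φ : K ⟶ L) {j i k : ℤ} (hj : j + 1 = i) (hk : i + 1 = k)
    (h : Function.Injective (homologyMap φ i).hom) (x : K.X i) (hx : (K.d i k).hom x = 0)
    (hy : ∃ y : L.X j, (L.d j i).hom y = (φ.f i).hom x) : ∃ y' : K.X j, (K.d j i).hom y' = x := by
  rw [← cls_eq_zero_iff K hj hk x hx]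
  apply h
  refine (homologyMap_cls φ hk x hx).trans ?_
  exact ((cls_eq_zero_iff L hj hk _ _).2 hy).trans (map_zero _).symm

/-- element-wise criterion for surjectivity of the map in homology -/
lemma homologyMap_surjective_of (φ : K ⟶ L) {j i k : ℤ} (hj : j + 1 = i) (hk : i + 1 = k)
    (h : ∀ y : L.X i, (L.d i k).hom y = 0 → ∃ x : K.X i, (K.d i k).hom x = 0 ∧
      ∃ w : L.X j, (L.d j i).hom w = y - (φ.f i).hom x) :
    Function.Surjective (homologyMap φ i).hom := by
  intro c
  obtain ⟨y, hy, rfl⟩ := cls_surjective L hk c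
  obtain ⟨x, hx, w, hw⟩ := h y hy
  refine ⟨cls K hk x hx, ?_⟩
  rw [homologyMap_cls φ hk x hx]
  have hx' : (L.d i k).hom ((φ.f i).hom x) = 0 := by
    have := ConcreteCategory.congr_hom (φ.comm i k) x
    change (L.d i k).hom ((φ.f i).hom x) = (φ.f k).hom ((K.d i k).hom x) at this
    rw [this, hx, map_zero]
  have h0 : cls L hk (y - (φ.f i).hom x) (by rw [map_sub, hy, hx', sub_zero]) = 0 :=
    (cls_eq_zero_iff L hj hk _ _).2 ⟨w, hw⟩
  rw [cls_sub L hk y _ hy hx', sub_eq_zero] at h0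
  exact h0.symm

lemma of_homologyMap_surjective (φ : K ⟶ L) {j i k : ℤ} (hj : j + 1 = i) (hk : i + 1 = k)
    (h : Function.Surjective (homologyMap φ i).hom) (y : L.X i) (hy : (L.d i k).hom y = 0) :
    ∃ x : K.X i, (K.d i k).hom x = 0 ∧ ∃ w : L.X j, (L.d j i).hom w = y - (φ.f i).hom x := by
  obtain ⟨c, hc⟩ := h (cls L hk y hy)
  obtain ⟨x, hx, rfl⟩ := cls_surjective K hk c
  refine ⟨x, hx, ?_⟩
  rw [homologyMap_cls φ hk x hx] at hc
  have hx' : (L.d i k).hom ((φ.f i).hom x) = 0 := by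
    have := ConcreteCategory.congr_hom (φ.comm i k) x
    change (L.d i k).hom ((φ.f i).hom x) = (φ.f k).hom ((K.d i k).hom x) at this
    rw [this, hx, map_zero]
  have h0 : cls L hk (y - (φ.f i).hom x) (by rw [map_sub, hy, hx', sub_zero]) = 0 := by
    rw [cls_sub L hk y _ hy hx', hc, sub_self]
  exact (cls_eq_zero_iff L hj hk _ _).1 h0

end Groth.Agent.H45.LimCx
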