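import Groth.Prelude.Def_CohCx
import Mathlib.Algebra.Homology.QuasiIso
import Mathlib.CategoryTheory.Sites.LocallyBijective
import Mathlib.CategoryTheory.Sites.Abelian

/-!
# Isomorphisms of cohomology sheaves can be checked on sections over a covering class

Let `φ : K ⟶ L` be a morphism of complexes of abelian sheaves on a site, and `B` a class of objects
such that every object is covered by members of `B`.  If `H^m(K(U)) → H^m(L(U))` is bijective for
all `U ∈ B`, then `H^m(φ)` is an isomorphism of sheaves (`isIso_homologyMap_of_sections`).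

(helper45)
-/

set_option autoImplicit false

namespace Groth.Agent.H45.LimCx

open CategoryTheory Limits HomologicalComplex Opposite

universe u

section General

variable {C₁ C₂ : Type*} [Category C₁] [Category C₂] [Abelian C₁] [Abelian C₂]
  (F : C₁ ⥤ C₂) [F.Additive] [F.PreservesHomology]
  {ι : Type*} {c : ComplexShape ι} {K L : HomologicalComplex C₁ c} (ψ : K ⟶ L) (i : ι)

lemma isIso_homologyMap_map_iff :
    IsIso (homologyMap ((F.mapHomologicalComplex c).map ψ) i) ↔ IsIso (F.map (homologyMap ψ i)) := by
  have h := ShortComplex.mapHomologyIso_hom_naturality ((shortComplexFunctor C₁ c i).map ψ) F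
  let A : ((K.sc i).map F).homology ⟶ ((L.sc i).map F).homology :=
    ShortComplex.homologyMap (F.mapShortComplex.map ((shortComplexFunctor C₁ c i).map ψ))
  let Bm : F.obj (K.sc i).homology ⟶ F.obj (L.sc i).homology :=
    F.map (ShortComplex.homologyMap ((shortComplexFunctor C₁ c i).map ψ))
  let e₁ := (K.sc i).mapHomologyIso F
  let e₂ := (L.sc i).mapHomologyIso F
  have h' : A ≫ e₂.hom = e₁.hom ≫ Bm := h
  change IsIso A ↔ IsIso Bm
  constructor
  · intro hA
    have : Bm = e₁.inv ≫ A ≫ e₂.hom := by rw [h', Iso.inv_hom_id_assoc]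
    rw [this]
    infer_instance
  · intro hB
    have : A = e₁.hom ≫ Bm ≫ e₂.inv := by
      rw [← reassoc_of% h', Iso.hom_inv_id, Category.comp_id]
    rw [this]
    infer_instance

end General

variable {C : Type u} [SmallCategory C] {J : GrothendieckTopology C}

/-- A morphism of abelian presheaves which is bijective on sections over a covering class becomes an
isomorphism after sheafification. -/
lemma isIso_presheafToSheaf_map_of_bijective {P Q : Cᵒᵖ ⥤ AddCommGrpCat.{u}} (h : P ⟶ Q)
    (B : Set C)
    (hB : ∀ U : C, ∃ (ι : Type u) (Y : ι → C) (f : ∀ i, Y i ⟶ U),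
      Sieve.ofArrows Y f ∈ J U ∧ ∀ i, Y i ∈ B)
    (hbij : ∀ U ∈ B, Function.Bijective (h.app (op U)).hom) :
    IsIso ((presheafToSheaf J AddCommGrpCat.{u}).map h) := by
  rw [← GrothendieckTopology.W_iff, GrothendieckTopology.W_iff_isLocallyBijective]
  constructor
  · refine ⟨fun {X} x y hxy => ?_⟩
    obtain ⟨ι, V, f, hcov, hV⟩ := hB X.unop
    refine J.superset_covering ?_ hcov
    rw [Sieve.ofArrows, Sieve.generate_le_iff]
    rintro _ _ ⟨i⟩
    change (P.map (f i).op).hom x = (P.map (f i).op).hom y
    apply (hbij (V i) (hV i)).1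
    have h1 := ConcreteCategory.congr_hom (h.naturality (f i).op) x
    have h2 := ConcreteCategory.congr_hom (h.naturality (f i).op) y
    change (h.app (op (V i))).hom ((P.map (f i).op).hom x) =
      (Q.map (f i).op).hom ((h.app X).hom x) at h1
    change (h.app (op (V i))).hom ((P.map (f i).op).hom y) =
      (Q.map (f i).op).hom ((h.app X).hom y) at h2
    rw [h1, h2]
    exact congrArg _ hxy
  · refine ⟨fun {U} s => ?_⟩
    obtain ⟨ι, V, f, hcov, hV⟩ := hB U
    refine J.superset_covering ?_ hcov
    rw [Sieve.ofArrows, Sieve.generate_le_iff]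
    rintro _ _ ⟨i⟩
    obtain ⟨t, ht⟩ := (hbij (V i) (hV i)).2 ((Q.map (f i).op).hom s)
    exact ⟨t, ht⟩

variable (J) in
/-- the counit isomorphism `a(ι K) ≅ K` for complexes of sheaves -/
noncomputable def counitCx (K : CochainComplex (Sheaf J AddCommGrpCat.{u}) ℤ) :
    ((presheafToSheaf J AddCommGrpCat.{u}).mapHomologicalComplex _).obj
      (((sheafToPresheaf J AddCommGrpCat.{u}).mapHomologicalComplex _).obj K) ≅ K :=
  HomologicalComplex.Hom.isoOfComponents
    (fun i => (asIso (sheafificationAdjunction J AddCommGrpCat.{u}).counit).app (K.X i))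
    (fun i j _ => ((sheafificationAdjunction J AddCommGrpCat.{u}).counit.naturality (K.d i j)).symm)

lemma counitCx_naturality {K L : CochainComplex (Sheaf J AddCommGrpCat.{u}) ℤ} (φ : K ⟶ L) :
    ((presheafToSheaf J AddCommGrpCat.{u}).mapHomologicalComplex _).map
      (((sheafToPresheaf J AddCommGrpCat.{u}).mapHomologicalComplex _).map φ) ≫ (counitCx J L).hom =
    (counitCx J K).hom ≫ φ := by
  refine HomologicalComplex.hom_ext _ _ (fun i => ?_)
  exact (sheafificationAdjunction J AddCommGrpCat.{u}).counit.naturality (φ.f i)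

/-- **Isomorphisms of cohomology sheaves can be checked on sections over a covering class.** -/
theorem isIso_homologyMap_of_sections {K L : CochainComplex (Sheaf J AddCommGrpCat.{u}) ℤ}
    (φ : K ⟶ L) (m : ℤ) (B : Set C)
    (hB : ∀ U : C, ∃ (ι : Type u) (Y : ι → C) (f : ∀ i, Y i ⟶ U),
      Sieve.ofArrows Y f ∈ J U ∧ ∀ i, Y i ∈ B)
    (h : ∀ U ∈ B, Function.Bijective (homologyMap ((CohCx.sectCx J U).map φ) m).hom) :
    IsIso (homologyMap φ m) := by
  let ψ := ((sheafToPresheaf J AddCommGrpCat.{u}).mapHomologicalComplex (ComplexShape.up ℤ)).map φ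
  have h1 : IsIso ((presheafToSheaf J AddCommGrpCat.{u}).map (homologyMap ψ m)) := by
    apply isIso_presheafToSheaf_map_of_bijective (homologyMap ψ m) B hB
    intro U hU
    have h2 : IsIso (homologyMap
        ((((evaluation Cᵒᵖ AddCommGrpCat.{u}).obj (op U)).mapHomologicalComplex _).map ψ) m) := by
      have : IsIso (homologyMap ((CohCx.sectCx J U).map φ) m) :=
        (ConcreteCategory.isIso_iff_bijective _).2 (h U hU)
      exact this
    have h3 : IsIso (((evaluation Cᵒᵖ AddCommGrpCat.{u}).obj (op U)).map (homologyMap ψ m)) :=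
      (isIso_homologyMap_map_iff _ ψ m).1 h2
    exact (ConcreteCategory.isIso_iff_bijective _).1 h3
  have h4 : IsIso (homologyMap
      (((presheafToSheaf J AddCommGrpCat.{u}).mapHomologicalComplex _).map ψ) m) :=
    (isIso_homologyMap_map_iff _ ψ m).2 h1
  have h5 := congrArg (fun α => homologyMap α m) (counitCx_naturality φ)
  simp only [homologyMap_comp] at h5
  have h6 : IsIso (homologyMap (counitCx J K).hom m) :=
    inferInstanceAs (IsIso ((homologyFunctor _ _ m).map (counitCx J K).hom))
  have h7 : IsIso (homologyMap (counitCx J L).hom m) :=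
    inferInstanceAs (IsIso ((homologyFunctor _ _ m).map (counitCx J L).hom))
  have h8 : homologyMap φ m = inv (homologyMap (counitCx J K).hom m) ≫
      homologyMap (((presheafToSheaf J AddCommGrpCat.{u}).mapHomologicalComplex _).map ψ) m ≫
      homologyMap (counitCx J L).hom m := by
    rw [h5, IsIso.inv_hom_id_assoc]
  rw [h8]
  infer_instance

end Groth.Agent.H45.LimCx
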