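import Groth.Prelude.Def_FreeSh
import Groth.Prelude.Def_CohCx
import Mathlib.Algebra.Homology.HomologicalComplexLimits
import Mathlib.CategoryTheory.Functor.OfSequence

/-!
# Sections of a limit of a tower of (complexes of) abelian sheaves

For a limit cone `c` of a functor `D : ℕᵒᵖ ⥤ Sheaf J Ab` (resp. complexes of abelian sheaves), sections
of `c.pt` over `U` are the compatible families of sections (`sections_ext`, `exists_section`,
`sections_ext_cx`, `exists_section_cx`).

(helper45)
-/

set_option autoImplicit false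

namespace Groth.Agent.H45.LimCx

open CategoryTheory Limits Opposite

universe u

variable {C : Type u} [SmallCategory C] {J : GrothendieckTopology C}

lemma evalGen_comp' {F G : Sheaf J AddCommGrpCat.{u}} (U : C) (φ : CohCx.freeSheaf J U ⟶ F)
    (g : F ⟶ G) :
    CohFree.evalGen J U G (φ ≫ g) = (g.hom.app (op U)).hom (CohFree.evalGen J U F φ) := rfl

lemma ofSect_comp' {F G : Sheaf J AddCommGrpCat.{u}} (U : C) (s : F.obj.obj (op U)) (g : F ⟶ G) :
    CohFree.ofSect J U F s ≫ g = CohFree.ofSect J U G ((g.hom.app (op U)).hom s) := by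
  have h1 : CohFree.evalGen J U G (CohFree.ofSect J U F s ≫ g) =
      CohFree.evalGen J U G (CohFree.ofSect J U G ((g.hom.app (op U)).hom s)) := by
    rw [evalGen_comp', CohFree.evalGen_ofSect, CohFree.evalGen_ofSect]
  rw [← CohFree.ofSect_evalGen J U G (CohFree.ofSect J U F s ≫ g), h1,
    CohFree.ofSect_evalGen]

section Sheaves

variable (D' : ℕᵒᵖ ⥤ Sheaf J AddCommGrpCat.{u}) (L : Sheaf J AddCommGrpCat.{u})
  (π : ∀ n, L ⟶ D'.obj (op n))
  (hπ : ∀ n, π (n + 1) ≫ D'.map (homOfLE (Nat.le_add_right n 1)).op = π n)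

/-- the cone attached to a compatible family of maps -/
noncomputable def coneOf {X : Sheaf J AddCommGrpCat.{u}} (φ : ∀ n, X ⟶ D'.obj (op n))
    (hφ : ∀ n, φ (n + 1) ≫ D'.map (homOfLE (Nat.le_add_right n 1)).op = φ n) : Cone D' where
  pt := X
  π := NatTrans.ofOpSequence (F := (Functor.const ℕᵒᵖ).obj X) (G := D')
    (fun n => φ n) (fun n => (Category.id_comp _).trans (hφ n).symm)

variable (hc : IsLimit (coneOf D' π hπ))

include hc in
lemma sections_ext (U : C) (s s' : L.obj.obj (op U))
    (h : ∀ n, ((π n).hom.app (op U)).hom s = ((π n).hom.app (op U)).hom s') : s = s' := by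
  have h1 : CohFree.ofSect J U L s = CohFree.ofSect J U L s' := by
    refine hc.hom_ext (fun j => ?_)
    obtain ⟨n⟩ := j
    change CohFree.ofSect J U L s ≫ π n = CohFree.ofSect J U L s' ≫ π n
    rw [ofSect_comp', ofSect_comp', h n]
  rw [← CohFree.evalGen_ofSect J U L s, h1, CohFree.evalGen_ofSect]

include hc in
lemma exists_section (U : C) (s : ∀ n, (D'.obj (op n)).obj.obj (op U))
    (hs : ∀ n, ((D'.map (homOfLE (Nat.le_add_right n 1)).op).hom.app (op U)).hom (s (n + 1)) = s n) :
    ∃ σ : L.obj.obj (op U), ∀ n, ((π n).hom.app (op U)).hom σ = s n := by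
  have hφ : ∀ n, CohFree.ofSect J U _ (s (n + 1)) ≫ D'.map (homOfLE (Nat.le_add_right n 1)).op =
      CohFree.ofSect J U _ (s n) := by
    intro n
    rw [ofSect_comp', hs]
  let l : CohCx.freeSheaf J U ⟶ L :=
    hc.lift (coneOf D' (fun n => CohFree.ofSect J U _ (s n)) hφ)
  have hl : ∀ n, l ≫ π n = CohFree.ofSect J U _ (s n) := fun n =>
    hc.fac (coneOf D' (fun n => CohFree.ofSect J U _ (s n)) hφ) (op n)
  refine ⟨CohFree.evalGen J U _ l, fun n => ?_⟩
  refine (evalGen_comp' U l (π n)).symm.trans ?_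
  rw [hl n, CohFree.evalGen_ofSect]

end Sheaves

section Complexes

variable (D : ℕᵒᵖ ⥤ CochainComplex (Sheaf J AddCommGrpCat.{u}) ℤ) (c : Cone D) (hc : IsLimit c)

/-- the degree `j` part of a limit cone of complexes is a limit cone -/
noncomputable def isLimitConeOfEval (j : ℤ) :
    IsLimit (coneOf (D ⋙ HomologicalComplex.eval _ _ j) (X := c.pt.X j)
      (fun n => (c.π.app (op n)).f j)
      (fun n => by
        change (c.π.app (op (n + 1)) ≫ D.map (homOfLE (Nat.le_add_right n 1)).op).f j = _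
        rw [c.w])) :=
  IsLimit.ofIsoLimit (isLimitOfPreserves (HomologicalComplex.eval _ _ j) hc)
    (Cone.ext (Iso.refl _) (fun n => by
      obtain ⟨n⟩ := n
      exact (Category.id_comp _).symm))

include hc in
lemma sections_ext_cx (j : ℤ) (U : C) (s s' : (c.pt.X j).obj.obj (op U))
    (h : ∀ n, (((c.π.app (op n)).f j).hom.app (op U)).hom s =
      (((c.π.app (op n)).f j).hom.app (op U)).hom s') : s = s' :=
  sections_ext _ _ _ _ (isLimitConeOfEval D c hc j) U s s' h

include hc in
lemma exists_section_cx (j : ℤ) (U : C) (s : ∀ n, ((D.obj (op n)).X j).obj.obj (op U))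
    (hs : ∀ n, (((D.map (homOfLE (Nat.le_add_right n 1)).op).f j).hom.app (op U)).hom (s (n + 1)) =
      s n) :
    ∃ σ : (c.pt.X j).obj.obj (op U), ∀ n, (((c.π.app (op n)).f j).hom.app (op U)).hom σ = s n :=
  exists_section _ _ _ _ (isLimitConeOfEval D c hc j) U s hs

end Complexes

end Groth.Agent.H45.LimCx
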