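import Groth.Agent.H45.LimCx.Tower
import Groth.Agent.H45.LimCx.Sections
import Groth.Agent.H45.LimCx.LocalIso

/-!
# Cohomology sheaves of a limit of a tower of complexes of abelian sheaves

(helper45)
-/

set_option autoImplicit false

namespace Groth.Agent.H45.LimCx

open CategoryTheory Limits HomologicalComplex Opposite

universe u

lemma limOne_congr {A : ℕ → Type u} [∀ n, AddCommGroup (A n)] (T T' : ∀ n, A (n + 1) →+ A n)
    (h : ∀ n x, T n x = T' n x) (hT : CohCx.LimOneIsZero A T) : CohCx.LimOneIsZero A T' := by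
  intro b
  obtain ⟨a, ha⟩ := hT b
  refine ⟨a, ?_⟩
  funext n
  have := congrFun ha n
  change a n - T' n (a (n + 1)) = b n
  rw [← h]
  exact this

section

variable {T : Type*} [Category T] (F : ℕ → T) (t : ∀ n, F (n + 1) ⟶ F n)

lemma opSequence_map_le_add (n k : ℕ) :
    (CohCx.opSequence F t).map (homOfLE (Nat.le_add_right n k)).op = CohCx.transition F t n k := by
  induction k with
  | zero => exact (CohCx.opSequence F t).map_id (op n)
  | succ k ih =>
    have : homOfLE (Nat.le_add_right n (k + 1)) =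
        homOfLE (Nat.le_add_right n k) ≫ homOfLE (Nat.le_add_right (n + k) 1) := rfl
    rw [this, op_comp, Functor.map_comp, ih, Functor.ofOpSequence_map_homOfLE_succ]
    rfl

end

variable {C : Type u} [SmallCategory C] (J : GrothendieckTopology C)

theorem isIso_homologyMap_limit_π
    (F : ℕ → CochainComplex (Sheaf J AddCommGrpCat.{u}) ℤ) (t : ∀ n, F (n + 1) ⟶ F n) (m : ℤ)
    (B : Set C)
    (hB : ∀ U : C, ∃ (ι : Type u) (Y : ι → C) (f : ∀ i, Y i ⟶ U),
      Sieve.ofArrows Y f ∈ J U ∧ ∀ i, Y i ∈ B)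
    (n₀ : ℕ)
    (ha : ∀ U ∈ B, ∀ j : ℤ, (j = m - 2 ∨ j = m - 1) →
      CohCx.LimOneIsZero (fun n => ((F n).X j).obj.obj (op U))
        (fun n => (((t n).f j).hom.app (op U)).hom))
    (hb : ∀ U ∈ B, CohCx.LimOneIsZero
      (fun n => ((CohCx.sectCx J U).obj (F n)).homology (m - 1))
      (fun n => (HomologicalComplex.homologyMap ((CohCx.sectCx J U).map (t n)) (m - 1)).hom))
    (hc : ∀ U ∈ B, ∀ k : ℕ, IsIso (HomologicalComplex.homologyMap
      ((CohCx.sectCx J U).map (CohCx.transition F t n₀ k)) m)) :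
    IsIso (HomologicalComplex.homologyMap (limit.π (CohCx.opSequence F t) (op n₀)) m) := by
  apply isIso_homologyMap_of_sections _ m B hB
  intro U hU
  have hsucc : ∀ n, (CohCx.opSequence F t).map (homOfLE (Nat.le_succ n)).op = t n :=
    fun n => Functor.ofOpSequence_map_homOfLE_succ t n
  refine tower_bijective (CohCx.opSequence F t ⋙ CohCx.sectCx J U)
    ((CohCx.sectCx J U).obj (limit (CohCx.opSequence F t)))
    (fun n => (CohCx.sectCx J U).map (limit.π (CohCx.opSequence F t) (op n))) ?_
    (m - 2) (m - 1) m (m + 1) (by ring) (by ring) rfl n₀ ?_ ?_ ?_ ?_ ?_ ?_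
  · intro n N h
    change (CohCx.sectCx J U).map (limit.π (CohCx.opSequence F t) (op N)) ≫
      (CohCx.sectCx J U).map ((CohCx.opSequence F t).map (homOfLE h).op) = _
    rw [← Functor.map_comp, limit.w]
  · intro j x y hxy
    exact sections_ext_cx (CohCx.opSequence F t) (limit.cone _) (limit.isLimit _) j U x y hxy
  · intro j s hs
    exact exists_section_cx (CohCx.opSequence F t) (limit.cone _) (limit.isLimit _) j U s hs
  · refine limOne_congr _ _ (fun n x => ?_) (ha U hU (m - 2) (Or.inl rfl))
    change _ = ((((CohCx.opSequence F t).map (homOfLE (Nat.le_succ n)).op).f (m - 2)).hom.app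
      (op U)).hom x
    rw [hsucc]
    rfl
  · refine limOne_congr _ _ (fun n x => ?_) (ha U hU (m - 1) (Or.inr rfl))
    change _ = ((((CohCx.opSequence F t).map (homOfLE (Nat.le_succ n)).op).f (m - 1)).hom.app
      (op U)).hom x
    rw [hsucc]
    rfl
  · refine limOne_congr _ _ (fun n x => ?_) (hb U hU)
    change _ = (homologyMap ((CohCx.sectCx J U).map
      ((CohCx.opSequence F t).map (homOfLE (Nat.le_succ n)).op)) (m - 1)).hom x
    rw [hsucc]
    rfl
  · intro N h
    obtain ⟨k, rfl⟩ := Nat.exists_eq_add_of_le h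
    have := hc U hU k
    rw [← opSequence_map_le_add] at this
    exact (ConcreteCategory.isIso_iff_bijective _).1 this

end Groth.Agent.H45.LimCx
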