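import Groth.Agent.H45.LimCx.AbHom
import Groth.Prelude.Def_CohCx

/-!
# Cohomology of a limit of a tower of complexes of abelian groups

Let `Dg : ℕᵒᵖ ⥤ CochainComplex Ab ℤ` be a tower of complexes and `c` a cone over it which is
"termwise a limit" (`hext`, `hex`).  If `R¹lim` of the terms in degrees `m-2`, `m-1` and of
`H^{m-1}` vanish, and `H^m(G_N) → H^m(G_{n₀})` is bijective for `N ≥ n₀`, then
`H^m(c.pt) → H^m(G_{n₀})` is bijective (`tower_bijective`).

(helper45)
-/

set_option autoImplicit false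

namespace Groth.Agent.H45.LimCx

open CategoryTheory Limits HomologicalComplex Opposite

universe u

lemma comm_apply {K L : CochainComplex AddCommGrpCat.{u} ℤ} (φ : K ⟶ L) (i k : ℤ) (x : K.X i) :
    (L.d i k).hom ((φ.f i).hom x) = (φ.f k).hom ((K.d i k).hom x) :=
  ConcreteCategory.congr_hom (φ.comm i k) x

lemma d_d_apply (K : CochainComplex AddCommGrpCat.{u} ℤ) (i j k : ℤ) (x : K.X i) :
    (K.d j k).hom ((K.d i j).hom x) = 0 :=
  ConcreteCategory.congr_hom (K.d_comp_d i j k) x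

section Tower

variable (Dg : ℕᵒᵖ ⥤ CochainComplex AddCommGrpCat.{u} ℤ)

/-- the transition maps of the tower -/
noncomputable def dn {n N : ℕ} (h : n ≤ N) : Dg.obj (op N) ⟶ Dg.obj (op n) :=
  Dg.map (homOfLE h).op

lemma dn_dn {n N M : ℕ} (h₁ : n ≤ N) (h₂ : N ≤ M) (j : ℤ) (x : (Dg.obj (op M)).X j) :
    ((dn Dg h₁).f j).hom (((dn Dg h₂).f j).hom x) = ((dn Dg (h₁.trans h₂)).f j).hom x := by
  have h : dn Dg h₂ ≫ dn Dg h₁ = dn Dg (h₁.trans h₂) := by
    unfold dn
    rw [← Dg.map_comp]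
    rfl
  have h' : (dn Dg h₂).f j ≫ (dn Dg h₁).f j = (dn Dg (h₁.trans h₂)).f j := by
    rw [← HomologicalComplex.comp_f, h]
  exact ConcreteCategory.congr_hom h' x

variable (L : CochainComplex AddCommGrpCat.{u} ℤ) (π : ∀ n, L ⟶ Dg.obj (op n))
  (hπ : ∀ (n N : ℕ) (h : n ≤ N), π N ≫ dn Dg h = π n)

include hπ in
lemma π_dn {n N : ℕ} (h : n ≤ N) (j : ℤ) (x : L.X j) :
    ((dn Dg h).f j).hom (((π N).f j).hom x) = ((π n).f j).hom x := by
  have h' : (π N).f j ≫ (dn Dg h).f j = (π n).f j := by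
    rw [← HomologicalComplex.comp_f, hπ n N h]
  exact ConcreteCategory.congr_hom h' x

include hπ in

theorem tower_bijective (m2 m1 m mp : ℤ) (h21 : m2 + 1 = m1) (h10 : m1 + 1 = m)
    (h0p : m + 1 = mp) (n₀ : ℕ)
    (hext : ∀ (j : ℤ) (x y : L.X j),
      (∀ n, ((π n).f j).hom x = ((π n).f j).hom y) → x = y)
    (hex : ∀ (j : ℤ) (s : ∀ n, (Dg.obj (op n)).X j),
      (∀ n, ((dn Dg (Nat.le_succ n)).f j).hom (s (n + 1)) = s n) →
        ∃ x : L.X j, ∀ n, ((π n).f j).hom x = s n)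
    (ha2 : CohCx.LimOneIsZero (fun n => (Dg.obj (op n)).X m2)
      (fun n => ((dn Dg (Nat.le_succ n)).f m2).hom))
    (ha1 : CohCx.LimOneIsZero (fun n => (Dg.obj (op n)).X m1)
      (fun n => ((dn Dg (Nat.le_succ n)).f m1).hom))
    (hb : CohCx.LimOneIsZero (fun n => (Dg.obj (op n)).homology m1)
      (fun n => (homologyMap (dn Dg (Nat.le_succ n)) m1).hom))
    (hc : ∀ (N : ℕ) (h : n₀ ≤ N), Function.Bijective (homologyMap (dn Dg h) m).hom) :
    Function.Bijective (homologyMap (π n₀) m).hom := by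
  constructor
  · -- injectivity
    apply homologyMap_injective_of _ h10 h0p
    rintro z hz ⟨y₀, hy₀⟩
    have P : ∀ N, ∃ y : (Dg.obj (op N)).X m1,
        ((Dg.obj (op N)).d m1 m).hom y = ((π N).f m).hom z := by
      intro N
      have hN : n₀ ≤ N + n₀ := Nat.le_add_left _ _
      obtain ⟨y', hy'⟩ := of_homologyMap_injective (dn Dg hN) h10 h0p (hc _ hN).1
        (((π (N + n₀)).f m).hom z) (by rw [comm_apply, hz, map_zero])
        ⟨y₀, by rw [hy₀, π_dn Dg L π hπ]⟩
      refine ⟨((dn Dg (Nat.le_add_right N n₀)).f m1).hom y', ?_⟩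
      rw [comm_apply, hy', π_dn Dg L π hπ]
    choose y hy using P
    -- the defect classes
    have hcc : ∀ n, ((Dg.obj (op n)).d m1 m).hom
        (((dn Dg (Nat.le_succ n)).f m1).hom (y (n + 1)) - y n) = 0 := by
      intro n
      rw [map_sub, comm_apply, hy, hy, π_dn Dg L π hπ, sub_self]
    obtain ⟨h, hh⟩ := hb (fun n => cls _ h10 _ (hcc n))
    have hh' : ∀ n, h n - (homologyMap (dn Dg (Nat.le_succ n)) m1).hom (h (n + 1)) =
        cls _ h10 _ (hcc n) := fun n => congrFun hh n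
    have W : ∀ n, ∃ (w : (Dg.obj (op n)).X m1) (hw : ((Dg.obj (op n)).d m1 m).hom w = 0),
        cls _ h10 w hw = h n := fun n => cls_surjective _ h10 (h n)
    choose w hw hwh using W
    have hX : ∀ n, ∃ x : (Dg.obj (op n)).X m2, ((Dg.obj (op n)).d m2 m1).hom x =
        w n - ((dn Dg (Nat.le_succ n)).f m1).hom (w (n + 1)) -
          (((dn Dg (Nat.le_succ n)).f m1).hom (y (n + 1)) - y n) := by
      intro n
      have htw : ((Dg.obj (op n)).d m1 m).hom (((dn Dg (Nat.le_succ n)).f m1).hom (w (n + 1))) = 0 := by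
        rw [comm_apply, hw, map_zero]
      have hd1 : ((Dg.obj (op n)).d m1 m).hom
          (w n - ((dn Dg (Nat.le_succ n)).f m1).hom (w (n + 1))) = 0 := by
        rw [map_sub, hw, htw, sub_self]
      have hd : ((Dg.obj (op n)).d m1 m).hom
          (w n - ((dn Dg (Nat.le_succ n)).f m1).hom (w (n + 1)) -
            (((dn Dg (Nat.le_succ n)).f m1).hom (y (n + 1)) - y n)) = 0 := by
        rw [map_sub, hd1, hcc, sub_self]
      rw [← cls_eq_zero_iff _ h21 h10 _ hd]
      have e1 := cls_sub _ h10 _ _ hd1 (hcc n)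
      have e2 := cls_sub _ h10 _ _ (hw n) htw
      have e3 := homologyMap_cls (dn Dg (Nat.le_succ n)) h10 (w (n + 1)) (hw (n + 1))
      refine e1.trans ?_
      rw [e2, ← e3, hwh, hwh, hh' n, sub_self]
    choose x hx using hX
    obtain ⟨u, hu⟩ := ha2 x
    have hu' : ∀ n, u n - ((dn Dg (Nat.le_succ n)).f m2).hom (u (n + 1)) = x n :=
      fun n => congrFun hu n
    -- the corrected primitives
    have compat : ∀ n, ((dn Dg (Nat.le_succ n)).f m1).hom
        (y (n + 1) + w (n + 1) - ((Dg.obj (op (n + 1))).d m2 m1).hom (u (n + 1))) =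
        y n + w n - ((Dg.obj (op n)).d m2 m1).hom (u n) := by
      intro n
      have h1 : ((Dg.obj (op n)).d m2 m1).hom (u n) -
          ((dn Dg (Nat.le_succ n)).f m1).hom (((Dg.obj (op (n + 1))).d m2 m1).hom (u (n + 1))) =
          w n - ((dn Dg (Nat.le_succ n)).f m1).hom (w (n + 1)) -
          (((dn Dg (Nat.le_succ n)).f m1).hom (y (n + 1)) - y n) := by
        rw [← hx n, ← hu' n, map_sub, comm_apply]
      rw [map_sub, map_add, ← sub_eq_zero]
      have h2 : ((dn Dg (Nat.le_succ n)).f m1).hom (y (n + 1)) +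
          ((dn Dg (Nat.le_succ n)).f m1).hom (w (n + 1)) -
          ((dn Dg (Nat.le_succ n)).f m1).hom (((Dg.obj (op (n + 1))).d m2 m1).hom (u (n + 1))) -
          (y n + w n - ((Dg.obj (op n)).d m2 m1).hom (u n)) =
          (((Dg.obj (op n)).d m2 m1).hom (u n) -
          ((dn Dg (Nat.le_succ n)).f m1).hom (((Dg.obj (op (n + 1))).d m2 m1).hom (u (n + 1)))) -
          (w n - ((dn Dg (Nat.le_succ n)).f m1).hom (w (n + 1)) -
          (((dn Dg (Nat.le_succ n)).f m1).hom (y (n + 1)) - y n)) := by abel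
      rw [h2, h1, sub_self]
    obtain ⟨aL, haL⟩ := hex m1 (fun n => y n + w n - ((Dg.obj (op n)).d m2 m1).hom (u n)) compat
    refine ⟨aL, hext m _ _ (fun n => ?_)⟩
    rw [← comm_apply, haL n, map_sub, map_add, hy, hw, d_d_apply, add_zero, sub_zero]
  · -- surjectivity
    apply homologyMap_surjective_of _ h10 h0p
    intro y hy
    have hN : ∀ N : ℕ, n₀ ≤ N + n₀ := fun N => Nat.le_add_left _ _
    have Q : ∀ N, ∃ z' : (Dg.obj (op (N + n₀))).X m,
        ((Dg.obj (op (N + n₀))).d m mp).hom z' = 0 ∧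
        ∃ w : (Dg.obj (op n₀)).X m1, ((Dg.obj (op n₀)).d m1 m).hom w =
          y - ((dn Dg (hN N)).f m).hom z' :=
      fun N => of_homologyMap_surjective (dn Dg (hN N)) h10 h0p (hc _ (hN N)).2 y hy
    choose z' hz' w' hw' using Q
    have hζ : ∀ N, ((Dg.obj (op N)).d m mp).hom
        (((dn Dg (Nat.le_add_right N n₀)).f m).hom (z' N)) = 0 := by
      intro N
      rw [comm_apply, hz', map_zero]
    have Bd : ∀ N, ∃ b : (Dg.obj (op N)).X m1, ((Dg.obj (op N)).d m1 m).hom b =
        ((dn Dg (Nat.le_succ N)).f m).hom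
          (((dn Dg (Nat.le_add_right (N + 1) n₀)).f m).hom (z' (N + 1))) -
        ((dn Dg (Nat.le_add_right N n₀)).f m).hom (z' N) := by
      intro N
      have hs : N + n₀ ≤ N + 1 + n₀ := by omega
      have hbr : ((Dg.obj (op (N + n₀))).d m mp).hom
          (((dn Dg hs).f m).hom (z' (N + 1)) - z' N) = 0 := by
        rw [map_sub, comm_apply, hz', hz', map_zero, sub_self]
      obtain ⟨β, hβ⟩ := of_homologyMap_injective (dn Dg (hN N)) h10 h0p (hc _ (hN N)).1
        (((dn Dg hs).f m).hom (z' (N + 1)) - z' N) hbr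
        ⟨w' N - w' (N + 1), by
          rw [map_sub, map_sub, hw', hw', dn_dn]
          abel⟩
      refine ⟨((dn Dg (Nat.le_add_right N n₀)).f m1).hom β, ?_⟩
      rw [comm_apply, hβ, map_sub, dn_dn, dn_dn]
    choose b hb' using Bd
    obtain ⟨a, ha⟩ := ha1 b
    have ha' : ∀ n, a n - ((dn Dg (Nat.le_succ n)).f m1).hom (a (n + 1)) = b n :=
      fun n => congrFun ha n
    have compat : ∀ n, ((dn Dg (Nat.le_succ n)).f m).hom
        (((dn Dg (Nat.le_add_right (n + 1) n₀)).f m).hom (z' (n + 1)) +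
          ((Dg.obj (op (n + 1))).d m1 m).hom (a (n + 1))) =
        ((dn Dg (Nat.le_add_right n n₀)).f m).hom (z' n) +
          ((Dg.obj (op n)).d m1 m).hom (a n) := by
      intro n
      have h1 : ((Dg.obj (op n)).d m1 m).hom (a n) -
          ((dn Dg (Nat.le_succ n)).f m).hom (((Dg.obj (op (n + 1))).d m1 m).hom (a (n + 1))) =
          ((dn Dg (Nat.le_succ n)).f m).hom
            (((dn Dg (Nat.le_add_right (n + 1) n₀)).f m).hom (z' (n + 1))) -
          ((dn Dg (Nat.le_add_right n n₀)).f m).hom (z' n) := by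
        rw [← hb' n, ← ha' n, map_sub, comm_apply]
      rw [map_add, ← sub_eq_zero]
      have h2 : ((dn Dg (Nat.le_succ n)).f m).hom
            (((dn Dg (Nat.le_add_right (n + 1) n₀)).f m).hom (z' (n + 1))) +
          ((dn Dg (Nat.le_succ n)).f m).hom (((Dg.obj (op (n + 1))).d m1 m).hom (a (n + 1))) -
          (((dn Dg (Nat.le_add_right n n₀)).f m).hom (z' n) +
            ((Dg.obj (op n)).d m1 m).hom (a n)) =
          (((dn Dg (Nat.le_succ n)).f m).hom
            (((dn Dg (Nat.le_add_right (n + 1) n₀)).f m).hom (z' (n + 1))) -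
          ((dn Dg (Nat.le_add_right n n₀)).f m).hom (z' n)) -
          (((Dg.obj (op n)).d m1 m).hom (a n) -
          ((dn Dg (Nat.le_succ n)).f m).hom (((Dg.obj (op (n + 1))).d m1 m).hom (a (n + 1)))) := by
        abel
      rw [h2, h1, sub_self]
    obtain ⟨x, hx⟩ := hex m (fun n => ((dn Dg (Nat.le_add_right n n₀)).f m).hom (z' n) +
      ((Dg.obj (op n)).d m1 m).hom (a n)) compat
    refine ⟨x, hext mp _ _ (fun n => ?_), w' n₀ - a n₀, ?_⟩
    · rw [← comm_apply, hx n, map_add, hζ, d_d_apply, add_zero, map_zero]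
    · rw [map_sub, hw', hx n₀]
      abel

end Tower

end Groth.Agent.H45.LimCx
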